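import Groth.Prelude.Def_Neron
import Groth.Prelude.Def_EGA4b
import Groth.Agent.CAlgMisc2.NormalTransport
import Groth.Agent.NeronLib.NormalSmooth
import Groth.Agent.NeronLib.Dedekind
import Groth.Agent.SmoothLib.StalkCrit
import Groth.Agent.SmoothLib.QuasiFinite
import Mathlib

/-!
# Néron models of finite étale schemes over the fraction field of a Dedekind domain
-/

universe u

set_option autoImplicit false

open AlgebraicGeometry CategoryTheory Limits TopologicalSpace nonZeroDivisors

namespace Groth.Agent.NeronEtale27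

/-- A finite étale algebra over the fraction field has a finite normal model. -/
theorem exists_normal_model (R : Type u) [CommRing R] [IsDedekindDomain R] (L : Type u) [CommRing L]
    [Algebra (FractionRing R) L] [Algebra R L] [IsScalarTower R (FractionRing R) L]
    [Module.Finite (FractionRing R) L] [Algebra.Etale (FractionRing R) L] :
    ∃ (D : Type u) (_ : CommRing D) (_ : Algebra R D) (j : D →ₐ[R] L),
      Module.Finite R D ∧ Module.Flat R D ∧ EGA4.IsNormalRing D ∧
        @IsLocalization D _ (Algebra.algebraMapSubmonoid D R⁰) L _ j.toRingHom.toAlgebra := by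
  classical
  let K := FractionRing R
  have : IsArtinianRing L := IsArtinianRing.of_finite K L
  have : IsReduced L := Algebra.FormallyUnramified.isReduced_of_field K L
  let P : MaximalSpectrum L → Type u := fun m => L ⧸ m.asIdeal
  letI : ∀ m, Field (P m) := fun m => Ideal.Quotient.field m.asIdeal
  have hfd : ∀ m, Module.Finite K (P m) := fun m => inferInstance
  have hsep : ∀ m, Algebra.IsSeparable K (P m) := fun m => by
    have : Algebra.FormallyUnramified K (P m) :=
      Algebra.FormallyUnramified.of_surjective (Ideal.Quotient.mkₐ K m.asIdeal) Ideal.Quotient.mk_surjective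
    exact Algebra.FormallyUnramified.isSeparable K (P m)
  let D := ∀ m, integralClosure R (P m)
  have hfin : ∀ m, Module.Finite R (integralClosure R (P m)) := fun m =>
    IsIntegralClosure.finite R K (P m) (integralClosure R (P m))
  haveI : Finite (MaximalSpectrum L) := inferInstance
  haveI : Module.Finite R D := Module.Finite.pi
  let e : L ≃ₐ[R] ((m : MaximalSpectrum L) → P m) := (IsArtinianRing.equivPi L).restrictScalars R
  let j : D →ₐ[R] L := e.symm.toAlgHom.comp
    (Pi.algHom R _ fun m => (integralClosure R (P m)).val.comp (Pi.evalAlgHom R _ m))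
  have hj : Function.Injective j := fun a b h => by
    have := e.symm.injective h
    funext m
    exact Subtype.ext (congrFun this m)
  letI : Algebra D L := j.toRingHom.toAlgebra
  have hflat : Module.Flat R D := by
    have : ∀ m, Module.IsTorsionFree R (P m) := fun m =>
      Module.isTorsionFree_iff_algebraMap_injective.2 (by
        rw [IsScalarTower.algebraMap_eq R K (P m)]
        exact (algebraMap K (P m)).injective.comp (IsFractionRing.injective R K))
    have : Module.IsTorsionFree R D :=
      Function.Injective.moduleIsTorsionFree (fun d m => ((d m : integralClosure R (P m)) : P m))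
        (fun a b h => funext fun m => Subtype.ext (congrFun h m)) (fun r d => funext fun m => rfl)
    infer_instance
  refine ⟨D, inferInstance, inferInstance, j, inferInstance, hflat, ?_, ?_⟩
  · refine CAlgMisc2.isNormalRing_pi _ fun m p hp => ?_
    have : IsDedekindDomain (integralClosure R (P m)) := integralClosure.isDedekindDomain R K (P m)
    exact ⟨IsLocalization.isDomain_of_le_nonZeroDivisors _ p.primeCompl_le_nonZeroDivisors,
      isIntegrallyClosed_of_isLocalization _ p.primeCompl p.primeCompl_le_nonZeroDivisors⟩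
  · refine ⟨?_, ?_, ?_⟩
    · rintro ⟨_, r, hr, rfl⟩
      show IsUnit (j (algebraMap R D r))
      rw [j.commutes, IsScalarTower.algebraMap_apply R K L]
      exact (IsLocalization.map_units K ⟨r, hr⟩).map _
    · intro z
      obtain ⟨⟨a, ha⟩, hz⟩ := IsIntegral.exists_multiple_integral_of_isLocalization R⁰ z
        (Algebra.IsIntegral.isIntegral (R := K) z)
      refine ⟨⟨fun m => ⟨e ((⟨a, ha⟩ : R⁰) • z) m, (hz.map e.toAlgHom).map (Pi.evalAlgHom R _ m)⟩, ⟨algebraMap R D a, a, ha, rfl⟩⟩, ?_⟩
      show z * j (algebraMap R D a) = e.symm (fun m => e ((⟨a, ha⟩ : R⁰) • z) m)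
      rw [e.symm_apply_apply, j.commutes, Submonoid.smul_def, Algebra.smul_def, mul_comm]
    · intro x y h
      exact ⟨1, by rw [hj h]⟩

theorem isNormalScheme_spec_normalRing (D : Type u) [CommRing D] (h : EGA4.IsNormalRing D) :
    Pi1.IsNormalScheme (Spec (CommRingCat.of D)) := by
  intro x
  let e : Localization.AtPrime x.asIdeal ≃+* (Spec (CommRingCat.of D)).presheaf.stalk x :=
    (IsLocalization.algEquiv x.asIdeal.primeCompl (Localization.AtPrime x.asIdeal)
      ((Spec.structureSheaf D).presheaf.stalk x)).toRingEquiv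
  obtain ⟨h1, h2⟩ := h x.asIdeal
  exact ⟨MulEquiv.isDomain (Localization.AtPrime x.asIdeal) e.symm.toMulEquiv, IsIntegrallyClosed.of_equiv e⟩

theorem etale_of_smooth_lqf {X S : Scheme.{u}} (f : X ⟶ S) [Smooth f] [LocallyQuasiFinite f] : Etale f := by
  rw [HasRingHomProperty.iff_appLE (P := @Etale)]
  intro U V e
  have h1 := HasRingHomProperty.appLE @Smooth f ‹_› U V e
  have h2 := HasRingHomProperty.appLE @LocallyQuasiFinite f ‹_› U V e
  algebraize [(f.appLE U V e).hom]
  exact RingHom.etale_algebraMap.2 (SmoothLib.etale_of_smooth_of_quasiFinite _ _)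

/-- A finite étale scheme over the fraction field of a Dedekind domain has a Néron model, étale and quasi-finite. -/
theorem exists_neronModel (R : Type u) [CommRing R] [IsDedekindDomain R]
    (G : Over (Spec (CommRingCat.of (FractionRing R)))) [IsFinite G.hom] [Etale G.hom] :
    ∃ (N : Over (Spec (CommRingCat.of R))) (e : (Neron.genericFibre R).obj N ≅ G),
      Neron.IsNeronModelOf R N G e ∧ Etale N.hom ∧ LocallyQuasiFinite N.hom := by
  let K := FractionRing R
  have : IsAffine G.left := isAffine_of_isAffineHom G.hom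
  let φ := Spec.preimage (G.left.isoSpec.inv ≫ G.hom)
  have hφ : Spec.map φ = G.left.isoSpec.inv ≫ G.hom := Spec.map_preimage _
  have hGfin : IsFinite (Spec.map φ) := by rw [hφ]; infer_instance
  have hGet : Etale (Spec.map φ) := by rw [hφ]; infer_instance
  letI : Algebra K Γ(G.left, ⊤) := φ.hom.toAlgebra
  letI : Algebra R Γ(G.left, ⊤) := (φ.hom.comp (algebraMap R K)).toAlgebra
  haveI : IsScalarTower R K Γ(G.left, ⊤) := IsScalarTower.of_algebraMap_eq' rfl
  haveI : Module.Finite K Γ(G.left, ⊤) := (IsFinite.SpecMap_iff φ).1 hGfin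
  haveI : Algebra.Etale K Γ(G.left, ⊤) := RingHom.etale_algebraMap.1 (HasRingHomProperty.Spec_iff.1 hGet)
  obtain ⟨D, _, _, j, hDfin, hDflat, hDn, hloc⟩ := exists_normal_model R Γ(G.left, ⊤)
  let T := Spec (CommRingCat.of D)
  let π : T ⟶ Spec (CommRingCat.of R) := Spec.map (CommRingCat.ofHom (algebraMap R D))
  have hπfin : IsFinite π := (IsFinite.SpecMap_iff _).2 (RingHom.finite_algebraMap.2 hDfin)
  have hπlfp : LocallyOfFinitePresentation π := inferInstance
  have hπflat : Flat π := (HasRingHomProperty.Spec_iff (P := @Flat)).2 (RingHom.flat_algebraMap_iff.2 hDflat)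
  let a : Spec Γ(G.left, ⊤) ⟶ T := Spec.map (CommRingCat.ofHom j.toRingHom)
  have hpo : IsPullback a (Spec.map φ) π (Neron.genPt R) := by
    letI : Algebra D Γ(G.left, ⊤) := j.toRingHom.toAlgebra
    haveI : IsScalarTower R D Γ(G.left, ⊤) := IsScalarTower.of_algebraMap_eq fun r => (j.commutes r).symm
    have h1 : Algebra.IsPushout R K D Γ(G.left, ⊤) := ((Algebra.isLocalization_iff_isPushout R⁰ K).1 hloc).symm
    exact (isPullback_SpecMap_of_isPushout _ _ _ _ (CommRingCat.isPushout_of_isPushout R K D Γ(G.left, ⊤))).flip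
  have hsmK : ∀ z, a z ∈ π.smoothLocus := fun z => by
    refine SmoothLib.formallySmooth_stalkMap_of_baseChange π (Neron.genPt R) hpo z (Flat.stalkMap π (a z)) ?_
    have : z ∈ (Spec.map φ).smoothLocus := by rw [(Spec.map φ).smoothLocus_eq_top]; trivial
    exact this
  let N : Over (Spec (CommRingCat.of R)) := Over.mk (π.smoothLocus.ι ≫ π)
  let a' : Spec Γ(G.left, ⊤) ⟶ π.smoothLocus.toScheme := IsOpenImmersion.lift π.smoothLocus.ι a (by
    rw [Scheme.Opens.range_ι]; rintro _ ⟨z, rfl⟩; exact hsmK z)
  have ha' : a' ≫ π.smoothLocus.ι = a := IsOpenImmersion.lift_fac _ _ _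
  have htop : IsPullback a' (𝟙 _) π.smoothLocus.ι a :=
    IsPullback.of_isLimit' ⟨by rw [ha', Category.id_comp]⟩
      (PullbackCone.IsLimit.mk _ (fun s => s.snd)
        (fun s => by rw [← cancel_mono π.smoothLocus.ι, Category.assoc, ha', s.condition])
        (fun s => Category.comp_id _) (fun s m _ h2 => by rw [← h2]; exact (Category.comp_id _).symm))
  have hsq : IsPullback a' (Spec.map φ) N.hom (Neron.genPt R) := by
    have h := htop.paste_vert hpo
    rw [Category.id_comp] at h
    exact h
  have hsm : Smooth N.hom := by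
    show Smooth (π.smoothLocus.ι ≫ π)
    rw [← Scheme.Hom.smoothLocus_eq_top_iff, ← Scheme.Hom.preimage_smoothLocus_eq]
    exact top_unique fun y _ => y.2
  haveI : IsNoetherianRing D := IsNoetherianRing.of_finite R D
  haveI : IsNoetherian T := inferInstanceAs (IsNoetherian (Spec (CommRingCat.of D)))
  haveI : QuasiCompact π.smoothLocus.ι := inferInstance
  haveI : LocallyQuasiFinite N.hom := inferInstanceAs (LocallyQuasiFinite (π.smoothLocus.ι ≫ π))
  haveI : IsSeparated N.hom := inferInstanceAs (IsSeparated (π.smoothLocus.ι ≫ π))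
  haveI : QuasiCompact N.hom := inferInstanceAs (QuasiCompact (π.smoothLocus.ι ≫ π))
  haveI := hsm
  haveI : LocallyOfFiniteType N.hom := inferInstance
  let e : (Neron.genericFibre R).obj N ≅ G :=
    Over.isoMk (hsq.isoPullback.symm ≪≫ G.left.isoSpec.symm) (by
      show (hsq.isoPullback.inv ≫ G.left.isoSpec.inv) ≫ G.hom = pullback.snd N.hom (Neron.genPt R)
      rw [Category.assoc, ← hφ, IsPullback.isoPullback_inv_snd])
  refine ⟨N, e, ⟨hsm, inferInstance, inferInstance, inferInstance, fun Y hY => ?_⟩, etale_of_smooth_lqf N.hom, inferInstance⟩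
  have hbij : Function.Bijective (fun g : Y ⟶ N => (Neron.genericFibre R).map g) := by
    refine (NeronLib.bijective_map_iff (Neron.genPt R) (IsPullback.of_hasPullback Y.hom (Neron.genPt R))).2 fun h hh => ?_
    have hS : Pi1.IsNormalScheme (Spec (CommRingCat.of R)) :=
      isNormalScheme_spec_normalRing R fun p _ => ⟨IsLocalization.isDomain_of_le_nonZeroDivisors _ p.primeCompl_le_nonZeroDivisors,
        isIntegrallyClosed_of_isLocalization _ p.primeCompl p.primeCompl_le_nonZeroDivisors⟩
    haveI : IsLocallyNoetherian Y.left := LocallyOfFiniteType.isLocallyNoetherian Y.hom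
    obtain ⟨U, hU, f, p', hp', hf, hpf⟩ := NeronLib.exists_spread_genericFibre Y.hom π
      (h ≫ π.smoothLocus.ι) ((Category.assoc _ _ _).trans hh)
    obtain ⟨g₀, hg₀, hg₀U⟩ := NeronLib.exists_extension_to_integral (NeronLib.isNormalScheme_of_smooth Y.hom hS) Y.hom π U hU f hf
    have hrange := NeronLib.range_subset_smoothLocus hS Y.hom π (isNormalScheme_spec_normalRing D hDn) g₀ hg₀
    let g : Y.left ⟶ N.left := IsOpenImmersion.lift π.smoothLocus.ι g₀ (by
      rw [Scheme.Opens.range_ι]; rintro _ ⟨z, rfl⟩; exact hrange z)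
    have hg : g ≫ π.smoothLocus.ι = g₀ := IsOpenImmersion.lift_fac _ _ _
    refine ⟨Over.homMk g (by show g ≫ π.smoothLocus.ι ≫ π = Y.hom; rw [reassoc_of% hg, hg₀]), ?_, fun b hb => Over.OverMorphism.ext ?_⟩
    · show pullback.fst Y.hom (Neron.genPt R) ≫ g = h
      rw [← cancel_mono π.smoothLocus.ι]
      rw [Category.assoc, hg, ← hp', Category.assoc, hg₀U, hpf]
    · refine NeronLib.eq_of_fst_genPt Y.hom N.hom b.left g ((Over.w b).trans ?_) ?_
      · show Y.hom = g ≫ π.smoothLocus.ι ≫ π
        rw [reassoc_of% hg, hg₀]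
      · rw [hb, ← cancel_mono π.smoothLocus.ι]
        rw [Category.assoc, hg, ← hp', Category.assoc, hg₀U, hpf]
  have h2 := (Iso.homCongr (Iso.refl ((Neron.genericFibre R).obj Y)) e).bijective.comp hbij
  convert h2 using 1
  funext g
  simp [Iso.homCongr]

end Groth.Agent.NeronEtale27
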